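import Groth.Agent.Pi1Ext.Principal.Basic
import Groth.Prelude.Def_SGA1t

/-!
# Principal covers of affine schemes: the algebra
-/

set_option autoImplicit false
set_option backward.isDefEq.respectTransparency false
set_option backward.isDefEq.respectTransparency.types false
set_option linter.style.haveILetI false

universe u

open CategoryTheory CategoryTheory.Limits AlgebraicGeometry TensorProduct

namespace Groth.Agent.Pi1Ext.Principal

noncomputable section

/-- A finite étale algebra with a simply transitive action presenting a principal cover. -/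
structure Model {A : Type u} [CommRing A] {G : Type u} [CommGroup G] (P : FEt.Cat (Spec (CommRingCat.of A)))
    (ρ : G →* Aut P) where
  B : Type u
  [ring : CommRing B]
  [alg : Algebra A B]
  e : P.left ≅ Spec (CommRingCat.of B)
  he : e.hom ≫ Spec.map (CommRingCat.ofHom (algebraMap A B)) = P.hom
  σ : G →* (B ≃ₐ[A] B)
  hσ : ∀ g, (ρ g).hom.left ≫ e.hom = e.hom ≫ Spec.map (CommRingCat.ofHom (σ g).toRingEquiv.toRingHom)
  [finite : Module.Finite A B]
  [etale : Algebra.Etale A B]
  [ff : Module.FaithfullyFlat A B]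
  simply : SimplyTransitive σ

attribute [instance] Model.ring Model.alg Model.finite Model.etale Model.ff

variable {A : Type u} [CommRing A] {G : Type u} [CommGroup G] (P : FEt.Cat (Spec (CommRingCat.of A))) (ρ : G →* Aut P)

theorem exists_model (hP : SGA1t.IsPrincipal G P ρ) : Nonempty (Model P ρ) := by
  haveI : IsFinite P.hom := P.prop.1
  haveI : Etale P.hom := P.prop.2
  haveI : IsAffine ((Functor.fromPUnit (Spec (CommRingCat.of A))).obj P.right) :=
    inferInstanceAs (IsAffine (Spec (CommRingCat.of A)))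
  haveI : IsAffine P.left := isAffine_of_isAffineHom P.hom
  let α : A →+* Γ(P.left, ⊤) := ((Scheme.ΓSpecIso (CommRingCat.of A)).inv ≫ P.hom.appTop).hom
  letI : Algebra A Γ(P.left, ⊤) := α.toAlgebra
  have hf : Spec.map (CommRingCat.ofHom α) = P.left.isoSpec.inv ≫ P.hom := by
    have key : ∀ f : P.left ⟶ Spec (CommRingCat.of A),
        Spec.map ((Scheme.ΓSpecIso (CommRingCat.of A)).inv ≫ f.appTop) = P.left.isoSpec.inv ≫ f := fun f => by
      rw [← Scheme.isoSpec_inv_naturality, Scheme.isoSpec_Spec_inv, ← Spec.map_comp]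
    exact key P.hom
  have he : P.left.isoSpec.hom ≫ Spec.map (CommRingCat.ofHom (algebraMap A Γ(P.left, ⊤))) = P.hom := by
    show _ ≫ Spec.map (CommRingCat.ofHom α) = _
    rw [hf, Iso.hom_inv_id_assoc]
  have hprop : FEt.prop (Spec.map (CommRingCat.ofHom α)) := by
    rw [hf]; exact (MorphismProperty.cancel_left_of_respectsIso FEt.prop _ _).2 P.prop
  haveI : Module.Finite A Γ(P.left, ⊤) := RingHom.finite_algebraMap.1 ((IsFinite.SpecMap_iff _).1 hprop.1)
  haveI : Algebra.Etale A Γ(P.left, ⊤) :=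
    RingHom.etale_algebraMap.1 ((HasRingHomProperty.Spec_iff (P := @Etale)).1 hprop.2)
  haveI : Module.FaithfullyFlat A Γ(P.left, ⊤) := by
    refine RingHom.faithfullyFlat_algebraMap_iff.1 (RingHom.FaithfullyFlat.iff_flat_and_comap_surjective.2
      ⟨RingHom.flat_algebraMap_iff.2 inferInstance, fun x => ?_⟩)
    obtain ⟨z, hz⟩ := hP.1 x
    exact ⟨P.left.isoSpec.hom z, by rw [← hz, ← he]; rfl⟩
  let τ : G → (Γ(P.left, ⊤) →ₐ[A] Γ(P.left, ⊤)) := fun g =>
    { (ρ g).hom.left.appTop.hom with
      commutes' := fun r => by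
        have h := congrArg Scheme.Hom.appTop (MorphismProperty.Over.w (ρ g).hom)
        rw [Scheme.Hom.comp_appTop] at h
        exact ConcreteCategory.congr_hom h ((Scheme.ΓSpecIso (CommRingCat.of A)).inv r) }
  have hτ1 : τ 1 = AlgHom.id A _ := AlgHom.ext fun b => by
    show (ρ 1).hom.left.appTop b = b
    rw [map_one]
    exact ConcreteCategory.congr_hom (show (𝟙 P.left : P.left ⟶ P.left).appTop = 𝟙 _ from Scheme.Hom.id_appTop) b
  have hτm : ∀ g h, τ (g * h) = (τ g).comp (τ h) := fun g h => AlgHom.ext fun b => by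
    show (ρ (g * h)).hom.left.appTop b = (ρ g).hom.left.appTop ((ρ h).hom.left.appTop b)
    rw [mul_comm g h, map_mul]
    exact ConcreteCategory.congr_hom (Scheme.Hom.comp_appTop (ρ g).hom.left (ρ h).hom.left) b
  let σ : G →* (Γ(P.left, ⊤) ≃ₐ[A] Γ(P.left, ⊤)) :=
    { toFun := fun g => AlgEquiv.ofAlgHom (τ g) (τ g⁻¹) (by rw [← hτm, mul_inv_cancel, hτ1])
        (by rw [← hτm, inv_mul_cancel, hτ1])
      map_one' := AlgEquiv.ext fun b => AlgHom.congr_fun hτ1 b
      map_mul' := fun g h => AlgEquiv.ext fun b => AlgHom.congr_fun (hτm g h) b }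
  have hnat : ∀ g, (ρ g).hom.left ≫ P.left.isoSpec.hom =
      P.left.isoSpec.hom ≫ Spec.map (CommRingCat.ofHom (σ g).toRingEquiv.toRingHom) := fun g =>
    (Scheme.isoSpec_hom_naturality (ρ g).hom.left).symm
  refine ⟨{ B := Γ(P.left, ⊤), e := P.left.isoSpec, he := he, σ := σ, hσ := hnat, simply := ?_ }⟩
  intro Ω _ _ v w hvw
  let a : CommRingCat.of A ⟶ CommRingCat.of Ω := CommRingCat.ofHom (v.comp (algebraMap A Γ(P.left, ⊤)))
  let pt : (b : Γ(P.left, ⊤) →+* Ω) → b.comp (algebraMap A Γ(P.left, ⊤)) = a.hom → FEt.fiberObj (Spec.map a) P :=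
    fun b hb => ⟨Spec.map (CommRingCat.ofHom b) ≫ P.left.isoSpec.inv, by
      rw [Category.assoc, ← hf, ← Spec.map_comp]
      exact congrArg Spec.map (CommRingCat.hom_ext hb)⟩
  have hact : ∀ g, (Spec.map (CommRingCat.ofHom v) ≫ P.left.isoSpec.inv) ≫ (ρ g).hom.left =
      Spec.map (CommRingCat.ofHom (v.comp (σ g).toRingEquiv.toRingHom)) ≫ P.left.isoSpec.inv := fun g => by
    rw [← cancel_mono P.left.isoSpec.hom]
    simp only [Category.assoc, hnat, Iso.inv_hom_id_assoc, Iso.inv_hom_id, Category.comp_id, ← Spec.map_comp]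
    rfl
  have hiff : ∀ g, (FEt.fiber (Spec.map a)).map (ρ g).hom (pt v rfl) = pt w hvw.symm ↔
      v.comp (σ g).toRingEquiv.toRingHom = w := fun g => by
    constructor
    · intro h
      have h1 := congrArg Subtype.val h
      change (Spec.map (CommRingCat.ofHom v) ≫ P.left.isoSpec.inv) ≫ (ρ g).hom.left = _ at h1
      rw [hact] at h1
      exact congrArg CommRingCat.Hom.hom (Spec.map_injective ((cancel_mono _).1 h1))
    · intro h
      refine Subtype.ext ?_
      show (Spec.map (CommRingCat.ofHom v) ≫ P.left.isoSpec.inv) ≫ (ρ g).hom.left = _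
      rw [hact, h]
  exact (existsUnique_congr hiff).1 (hP.2 Ω (Spec.map a) (pt v rfl) (pt w hvw.symm))

end

end Groth.Agent.Pi1Ext.Principal
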