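import Groth.Agent.Pi1Ext.Principal.Affine

/-!
# Principal `ℤ/p`-covers in characteristic `p` are Artin–Schreier covers
-/

set_option autoImplicit false
set_option backward.isDefEq.respectTransparency false
set_option backward.isDefEq.respectTransparency.types false
set_option linter.style.haveILetI false

universe u

open CategoryTheory CategoryTheory.Limits AlgebraicGeometry TensorProduct

namespace Groth.Agent.Pi1Ext.Principal

noncomputable section

open Polynomial in
theorem exists_artinSchreier {A B : Type u} [CommRing A] [CommRing B] [Algebra A B] [Module.FaithfullyFlat A B]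
    (p : ℕ) [Fact p.Prime] [CharP A p] (σ : ULift.{u} (Multiplicative (ZMod p)) →* (B ≃ₐ[A] B))
    (hΘ : Function.Bijective (shear σ)) :
    ∃ (a : A) (ψ : SGA1t.artinSchreier A p a →ₐ[A] B), Function.Bijective ψ ∧
      ∀ (j : ZMod p) (z : SGA1t.artinSchreier A p a),
        σ (ULift.up (Multiplicative.ofAdd j)) (ψ z) = ψ (SGA1t.artinSchreierShift A p a j z) := by
  classical
  let s : ZMod p → (B ≃ₐ[A] B) := fun j => σ (ULift.up (Multiplicative.ofAdd j))
  have hs : ∀ i j b, s (i + j) b = s i (s j b) := fun i j b => by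
    show σ (ULift.up (Multiplicative.ofAdd (i + j))) b = _
    rw [show (ULift.up.{u} (Multiplicative.ofAdd (i + j))) =
      ULift.up (Multiplicative.ofAdd i) * ULift.up (Multiplicative.ofAdd j) from rfl, map_mul]
    rfl
  -- an element of trace one
  obtain ⟨n, x, y, hxy⟩ := exists_sum_mul σ hΘ 1
  let T : B → B := fun b => ∑ j : ZMod p, s j b
  have hT : ∀ b, T b ∈ Set.range (algebraMap A B) := fun b => mem_range_of_invariant σ hΘ _ fun g => by
    obtain ⟨i, rfl⟩ : ∃ i : Multiplicative (ZMod p), ULift.up i = g := ⟨g.down, rfl⟩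
    show s (Multiplicative.toAdd _) (∑ j, s j b) = ∑ j, s j b
    rw [map_sum]
    simp only [← hs]
    exact Fintype.sum_equiv (Equiv.addLeft _) _ _ fun j => rfl
  choose t ht using hT
  have h1 : Ideal.span (Set.range fun i => t (y i)) = ⊤ := by
    rw [← Ideal.comap_map_eq_self_of_faithfullyFlat (B := B) (Ideal.span _), Ideal.comap_eq_top_iff,
      Ideal.eq_top_iff_one]
    have : ∑ i, x i * T (y i) = 1 := by
      simp only [T, Finset.mul_sum]
      rw [Finset.sum_comm, Finset.sum_eq_single (0 : ZMod p)]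
      · exact (hxy _).1 rfl
      · intro j _ hj
        exact (hxy _).2 fun h => hj (congrArg (fun g : ULift.{u} (Multiplicative (ZMod p)) => Multiplicative.toAdd g.down) h)
      · simp
    rw [← this, Ideal.map_span]
    refine sum_mem fun i _ => Ideal.mul_mem_left _ _ (Ideal.subset_span ⟨_, ⟨i, rfl⟩, ?_⟩)
    exact ht (y i)
  obtain ⟨c, hc⟩ := (Ideal.mem_span_range_iff_exists_fun).1 ((Ideal.eq_top_iff_one _).1 h1)
  let b := ∑ i, algebraMap A B (c i) * y i
  have hb : ∑ j, s j b = 1 := by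
    calc ∑ j, s j b = ∑ i, algebraMap A B (c i) * T (y i) := by
          simp only [b, T, map_sum, map_mul, AlgEquiv.commutes, Finset.mul_sum]
          exact Finset.sum_comm
      _ = algebraMap A B (∑ i, c i * t (y i)) := by simp [map_sum, ht]
      _ = 1 := by rw [hc, map_one]
  let cast : ZMod p →+* B := (algebraMap A B).comp (ZMod.castHom (dvd_refl p) A)
  let Y := -∑ i, cast i * s i b
  have hY : ∀ j, s j Y = Y + cast j := by
    intro j
    have e : s j (∑ i, cast i * s i b) = ∑ k, cast (k - j) * s k b := by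
      rw [map_sum]
      refine Fintype.sum_equiv (Equiv.addLeft j) _ _ fun i => ?_
      rw [map_mul, ← hs, show s j (cast i) = cast i from AlgEquiv.commutes _ _]
      simp
    simp only [Y, map_neg, e, map_sub, sub_mul, Finset.sum_sub_distrib, ← Finset.mul_sum, hb, mul_one]
    ring
  have hcast : ∀ j, cast j ^ p = cast j := fun j => by rw [← map_pow, ZMod.pow_card]
  haveI : Fact (Nat.Prime p) := ‹_›
  have hp0 : ((p : ℕ) : B) = 0 := by
    rw [← map_natCast (algebraMap A B), CharP.cast_eq_zero, map_zero]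
  have hadd : ∀ u v : B, (u + v) ^ p = u ^ p + v ^ p := fun u v => by
    obtain ⟨r, hr⟩ := exists_add_pow_prime_eq (R := B) (Fact.out : p.Prime) u v
    rw [hr, hp0, zero_mul, zero_mul, zero_mul, add_zero]
  obtain ⟨a, ha⟩ := mem_range_of_invariant σ hΘ (Y ^ p - Y) fun g => by
    obtain ⟨j, rfl⟩ : ∃ j : ZMod p, ULift.up (Multiplicative.ofAdd j) = g := ⟨Multiplicative.toAdd g.down, rfl⟩
    show s j _ = _
    rw [map_sub, map_pow, hY, hadd, hcast]
    ring
  let I := Ideal.span {(X : A[X]) ^ p - X - C a}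
  let ψ : SGA1t.artinSchreier A p a →ₐ[A] B := Ideal.Quotient.liftₐ I (aeval Y) (fun f hf => by
    obtain ⟨g, rfl⟩ := Ideal.mem_span_singleton'.1 hf
    simp [ha])
  have hψX : ψ (Ideal.Quotient.mk I X) = Y := by
    show aeval Y X = Y
    simp
  let root : SGA1t.artinSchreier A p a := Ideal.Quotient.mk I X
  have hadj : Algebra.adjoin A {root} = ⊤ := by
    refine eq_top_iff.2 fun z _ => ?_
    obtain ⟨f, rfl⟩ := Ideal.Quotient.mk_surjective z
    rw [Algebra.adjoin_singleton_eq_range_aeval]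
    exact ⟨f, show aeval (Ideal.Quotient.mkₐ A I X) f = Ideal.Quotient.mkₐ A I f by
      rw [aeval_algHom_apply]; simp⟩
  have hp1 : 1 < p := (Fact.out : p.Prime).one_lt
  have hpow : root ^ p ∈ Submodule.span A (Set.range fun k : Fin p => root ^ (k : ℕ)) := by
    have e : root ^ p = root ^ (1 : ℕ) + a • root ^ (0 : ℕ) := by
      rw [pow_one, pow_zero, ← Algebra.algebraMap_eq_smul_one]
      show Ideal.Quotient.mk I X ^ p = Ideal.Quotient.mk I X + Ideal.Quotient.mk I (C a)
      rw [← map_pow, ← map_add, Ideal.Quotient.eq, ← sub_sub]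
      exact Ideal.subset_span rfl
    rw [e]
    exact add_mem (Submodule.subset_span ⟨⟨1, hp1⟩, rfl⟩)
      (Submodule.smul_mem _ _ (Submodule.subset_span ⟨⟨0, by omega⟩, rfl⟩))
  let e : Fin p ≃ ULift.{u} (Multiplicative (ZMod p)) :=
    ((ZMod.finEquiv p).toEquiv.trans Multiplicative.ofAdd).trans Equiv.ulift.symm
  refine ⟨a, ψ, bijective_of_conjugates σ hΘ root p e (span_pow_eq_top root p hadj hpow) ψ ?_, ?_⟩
  · intro g h hgh
    obtain ⟨i, rfl⟩ : ∃ j : ZMod p, ULift.up (Multiplicative.ofAdd j) = g := ⟨Multiplicative.toAdd g.down, rfl⟩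
    obtain ⟨j, rfl⟩ : ∃ j : ZMod p, ULift.up (Multiplicative.ofAdd j) = h := ⟨Multiplicative.toAdd h.down, rfl⟩
    show IsUnit (s i (ψ root) - s j (ψ root))
    rw [hψX, hY, hY, add_sub_add_left_eq_sub, ← map_sub]
    have hij : i - j ≠ 0 := sub_ne_zero.2 fun h => hgh (by rw [h])
    exact (isUnit_iff_ne_zero.2 hij).map cast
  · intro j z
    obtain ⟨f, rfl⟩ := Ideal.Quotient.mk_surjective z
    show s j (aeval Y f) = ψ (Ideal.Quotient.mk I (aeval (X + C ((ZMod.castHom (dvd_refl p) A) j)) f))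
    show s j (aeval Y f) = aeval Y (aeval (X + C ((ZMod.castHom (dvd_refl p) A) j)) f)
    rw [← aeval_algHom_apply (s j) Y f, hY, ← aeval_algHom_apply (aeval Y)]
    congr 1
    simp [cast]

theorem scheme_artinSchreier {A : Type u} [CommRing A] (p : ℕ) [Fact p.Prime] [CharP A p]
    (P : FEt.Cat (Spec (CommRingCat.of A))) (ρ : Multiplicative (ZMod p) →* Aut P)
    (hP : SGA1t.IsPrincipal (Multiplicative (ZMod p)) P ρ) :
    ∃ (a : A) (e : P.left ≅ Spec (CommRingCat.of (SGA1t.artinSchreier A p a))),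
      e.hom ≫ Spec.map (CommRingCat.ofHom (algebraMap A (SGA1t.artinSchreier A p a))) = P.hom ∧
      ∀ j : ZMod p, (ρ (Multiplicative.ofAdd j)).hom.left ≫ e.hom =
        e.hom ≫ Spec.map (CommRingCat.ofHom (SGA1t.artinSchreierShift A p a j)) := by
  let ρ' : ULift.{u} (Multiplicative (ZMod p)) →* Aut P := ρ.comp MulEquiv.ulift.toMonoidHom
  have hP' : SGA1t.IsPrincipal _ P ρ' := ⟨hP.1, fun Ω _ _ ξ s t => by
    obtain ⟨g, hg, hu⟩ := hP.2 Ω ξ s t
    exact ⟨ULift.up g, hg, fun g' hg' => ULift.ext _ _ (hu g'.down hg')⟩⟩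
  obtain ⟨M⟩ := exists_model P ρ' hP'
  obtain ⟨a, ψ, hψ, heq⟩ := exists_artinSchreier p M.σ (shear_bijective M.σ M.simply)
  haveI : IsIso (CommRingCat.ofHom ψ.toRingHom) := (ConcreteCategory.isIso_iff_bijective _).2 hψ
  let e : P.left ≅ Spec (CommRingCat.of (SGA1t.artinSchreier A p a)) :=
    M.e ≪≫ asIso (Spec.map (CommRingCat.ofHom ψ.toRingHom))
  refine ⟨a, e, ?_, fun j => ?_⟩
  · simp only [e, Iso.trans_hom, asIso_hom, Category.assoc, ← Spec.map_comp]
    refine Eq.trans ?_ M.he
    congr 2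
    exact CommRingCat.hom_ext (RingHom.ext fun r => ψ.commutes r)
  · simp only [e, Iso.trans_hom, asIso_hom, Category.assoc]
    rw [← Category.assoc, show (ρ (Multiplicative.ofAdd j)).hom.left ≫ M.e.hom = M.e.hom ≫ _ from M.hσ (ULift.up (Multiplicative.ofAdd j)),
      Category.assoc, ← Spec.map_comp, ← Spec.map_comp]
    congr 2
    exact CommRingCat.hom_ext (RingHom.ext fun z => heq j z)

end

end Groth.Agent.Pi1Ext.Principal
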