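import Groth.Agent.Pi1X.FEtGalois
import Mathlib.RingTheory.Etale.Pi
import Mathlib.RingTheory.RingHom.FaithfullyFlat
import Mathlib.LinearAlgebra.Vandermonde
import Mathlib.RingTheory.Flat.FaithfullyFlat.Algebra
import Mathlib.RingTheory.TensorProduct.IncludeLeftSubRight
import Mathlib.RingTheory.Flat.FaithfullyFlat.Basic

/-!
# Principal covers of affine schemes by finite commutative groups
-/

set_option autoImplicit false
set_option backward.isDefEq.respectTransparency false
set_option backward.isDefEq.respectTransparency.types false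
set_option linter.style.haveILetI false

universe u

open CategoryTheory CategoryTheory.Limits AlgebraicGeometry TensorProduct

namespace Groth.Agent.Pi1Ext.Principal

noncomputable section

variable {A B : Type u} [CommRing A] [CommRing B] [Algebra A B] {G : Type u} [Group G]
  (σ : G →* (B ≃ₐ[A] B))

/-- Simple transitivity on geometric points. -/
def SimplyTransitive : Prop :=
  ∀ (Ω : Type u) [Field Ω] [IsAlgClosed Ω] (v w : B →+* Ω), v.comp (algebraMap A B) = w.comp (algebraMap A B) →
    ∃! g : G, v.comp (σ g).toRingEquiv.toRingHom = w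

/-- The shear map. -/
def shear : B ⊗[A] B →ₐ[A] (G → B) :=
  Algebra.TensorProduct.lift (Pi.algHom A (fun _ : G => B) fun _ => AlgHom.id A B)
    (Pi.algHom A (fun _ : G => B) fun g => (σ g).toAlgHom) fun _ _ => Commute.all _ _

@[simp] theorem shear_tmul (b b' : B) (g : G) : shear σ (b ⊗ₜ b') g = b * σ g b' := rfl

variable [Finite G]

/-- A finite étale algebra as an object of the category of covers. -/
def obj (C : Type u) [CommRing C] [Algebra A C] [Module.Finite A C] [Algebra.Etale A C] :
    FEt.Cat (Spec (CommRingCat.of A)) :=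
  MorphismProperty.Over.mk ⊤ (Spec.map (CommRingCat.ofHom (algebraMap A C)))
    ⟨(IsFinite.SpecMap_iff _).2 (RingHom.finite_algebraMap.2 inferInstance),
      (HasRingHomProperty.Spec_iff (P := @Etale)).2 (RingHom.etale_algebraMap.2 inferInstance)⟩

theorem shear_bijective [Module.Finite A B] [Algebra.Etale A B] (hσ : SimplyTransitive σ) :
    Function.Bijective (shear σ) := by
  classical
  cases nonempty_fintype G
  haveI : Algebra.Etale A (B ⊗[A] B) := Algebra.Etale.comp A B _
  haveI : Algebra.Etale A (G → B) := inferInstance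
  haveI : Module.Finite A (B ⊗[A] B) := inferInstance
  haveI : Module.Finite A (G → B) := inferInstance
  let φ : obj (A := A) (G → B) ⟶ obj (A := A) (B ⊗[A] B) :=
    MorphismProperty.Over.homMk (Spec.map (CommRingCat.ofHom (shear σ).toRingHom)) (by
      show Spec.map _ ≫ Spec.map _ = Spec.map _
      rw [← Spec.map_comp]
      congr 1
      exact CommRingCat.hom_ext (RingHom.ext fun a => (shear σ).commutes a))
  have hiso : IsIso φ := by
    refine Pi1X.isIso_of_fiber_bijective φ fun C hC hne => ?_
    obtain ⟨x, hx⟩ := hne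
    obtain ⟨Ω, _, _, ξ, hξ⟩ := Pi1X.exists_geometric_point x
    refine ⟨Ω, inferInstance, inferInstance, ξ, by rw [hξ]; exact hx, ?_⟩
    obtain ⟨a, rfl⟩ := Spec.map_surjective ξ
    -- points of a product
    have hprod : ∀ (t : (G → B) →+* Ω), t.comp (algebraMap A (G → B)) = a.hom →
        ∃ (g : G) (v : B →+* Ω), t = v.comp (Pi.evalRingHom (fun _ : G => B) g) ∧ v.comp (algebraMap A B) = a.hom := by
      intro t ht
      obtain ⟨g, hg⟩ : ∃ g, t (Pi.single g 1) ≠ 0 := by
        by_contra h
        push Not at h
        refine one_ne_zero (α := Ω) ?_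
        have h1 : t (∑ g, Pi.single g (1 : B)) = 0 := by rw [map_sum]; exact Finset.sum_eq_zero fun g _ => h g
        rwa [show (∑ g, Pi.single g (1 : B)) = 1 from Finset.univ_sum_single (1 : G → B), map_one] at h1
      have hg1 : t (Pi.single g 1) = 1 := by
        have h2 : t (Pi.single g 1) * t (Pi.single g 1) = t (Pi.single g 1) * 1 := by
          rw [← map_mul, ← Pi.single_mul, mul_one, mul_one]
        exact mul_left_cancel₀ hg h2
      have key : ∀ f, t f = t (Pi.single g (f g)) := fun f => by
        calc t f = t f * t (Pi.single g 1) := by rw [hg1, mul_one]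
          _ = _ := by
            rw [← map_mul]
            congr 1
            funext h
            by_cases hh : h = g
            · subst hh; simp
            · simp [hh]
      let v : B →+* Ω :=
        { toFun := fun b => t (Pi.single g b)
          map_one' := hg1
          map_mul' := fun b c => by rw [← map_mul, ← Pi.single_mul]
          map_zero' := by simp
          map_add' := fun b c => by rw [← map_add, ← Pi.single_add] }
      refine ⟨g, v, RingHom.ext key, ?_⟩
      rw [← ht]
      exact RingHom.ext fun r => (key (algebraMap A (G → B) r)).symm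
    constructor
    · rintro ⟨s, hs⟩ ⟨t, ht⟩ h
      obtain ⟨s, rfl⟩ := Spec.map_surjective s
      obtain ⟨t, rfl⟩ := Spec.map_surjective t
      have hs' : s.hom.comp (algebraMap A (G → B)) = a.hom :=
        congrArg CommRingCat.Hom.hom (Spec.map_injective ((Spec.map_comp _ _).trans hs))
      have ht' : t.hom.comp (algebraMap A (G → B)) = a.hom :=
        congrArg CommRingCat.Hom.hom (Spec.map_injective ((Spec.map_comp _ _).trans ht))
      have h' : Spec.map s ≫ Spec.map (CommRingCat.ofHom (shear σ).toRingHom) =
          Spec.map t ≫ Spec.map (CommRingCat.ofHom (shear σ).toRingHom) := congrArg Subtype.val h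
      rw [← Spec.map_comp, ← Spec.map_comp] at h'
      have h'' : s.hom.comp (shear σ).toRingHom = t.hom.comp (shear σ).toRingHom :=
        congrArg CommRingCat.Hom.hom (Spec.map_injective h')
      obtain ⟨g, v, e1, hv⟩ := hprod _ hs'
      obtain ⟨g', v', e2, hv'⟩ := hprod _ ht'
      rw [e1, e2] at h''
      obtain rfl : v = v' := RingHom.ext fun b => by
        simpa using RingHom.congr_fun h'' (b ⊗ₜ[A] 1)
      obtain rfl : g = g' := (hσ Ω v (v.comp (σ g).toRingEquiv.toRingHom)
        (RingHom.ext fun r => by simp)).unique rfl (RingHom.ext fun b => by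
          simpa using (RingHom.congr_fun h'' (1 ⊗ₜ[A] b)).symm)
      exact Subtype.ext (congrArg Spec.map (CommRingCat.hom_ext (e1.trans e2.symm)))
    · rintro ⟨t, ht⟩
      obtain ⟨t, rfl⟩ := Spec.map_surjective t
      have ht' : t.hom.comp (algebraMap A (B ⊗[A] B)) = a.hom :=
        congrArg CommRingCat.Hom.hom (Spec.map_injective ((Spec.map_comp _ _).trans ht))
      let v : B →+* Ω := t.hom.comp (Algebra.TensorProduct.includeLeftRingHom : B →+* B ⊗[A] B)
      let w : B →+* Ω := t.hom.comp (Algebra.TensorProduct.includeRight : B →ₐ[A] B ⊗[A] B).toRingHom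
      obtain ⟨g, hg, -⟩ := hσ Ω v w (RingHom.ext fun r => by
        show t.hom (algebraMap A B r ⊗ₜ 1) = t.hom (1 ⊗ₜ algebraMap A B r)
        rw [Algebra.TensorProduct.tmul_one_eq_one_tmul])
      let s := CommRingCat.ofHom (R := G → B) (v.comp (Pi.evalRingHom (fun _ : G => B) g))
      have hs : Spec.map s ≫ Spec.map (CommRingCat.ofHom (algebraMap A (G → B))) = Spec.map a := by
        rw [← Spec.map_comp]
        congr 1
        refine CommRingCat.hom_ext ?_
        rw [← ht']
        exact RingHom.ext fun r => rfl
      refine ⟨⟨Spec.map s, hs⟩, Subtype.ext ?_⟩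
      show Spec.map s ≫ Spec.map _ = Spec.map t
      rw [← Spec.map_comp]
      congr 1
      refine CommRingCat.hom_ext (RingHom.ext fun z => ?_)
      show v (shear σ z g) = t.hom z
      induction z using TensorProduct.induction_on with
      | zero => simp
      | tmul b b' =>
        rw [shear_tmul, map_mul, show v (σ g b') = w b' from RingHom.congr_fun hg b']
        show t.hom (b ⊗ₜ 1) * t.hom (1 ⊗ₜ b') = _
        rw [← map_mul, Algebra.TensorProduct.tmul_mul_tmul, mul_one, one_mul]
      | add x y hx hy => simp only [map_add, Pi.add_apply, hx, hy]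
  haveI : IsIso φ.left := inferInstanceAs (IsIso ((MorphismProperty.Over.forget _ _ _ ⋙ Over.forget _).map φ))
  haveI : IsIso (Scheme.Spec.map (CommRingCat.ofHom (shear σ).toRingHom).op) := ‹IsIso φ.left›
  haveI : IsIso (CommRingCat.ofHom (shear σ).toRingHom).op := isIso_of_fully_faithful Scheme.Spec _
  haveI : IsIso (CommRingCat.ofHom (shear σ).toRingHom) := isIso_of_op _
  exact ConcreteCategory.bijective_of_isIso (CommRingCat.ofHom (shear σ).toRingHom)

/-- Invariants of a principal cover. -/
theorem mem_range_of_invariant [Module.FaithfullyFlat A B] (hΘ : Function.Bijective (shear σ)) (b : B)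
    (hb : ∀ g, σ g b = b) : b ∈ Set.range (algebraMap A B) := by
  have h : (1 : B) ⊗ₜ[A] b = b ⊗ₜ[A] 1 := hΘ.1 (funext fun g => by simp [hb])
  have he := Algebra.IsEffective.eqLocus_includeLeft_includeRight (Algebra.IsEffective.of_faithfullyFlat A B)
  exact he.le (show b ⊗ₜ[A] (1 : B) = 1 ⊗ₜ[A] b from h.symm)

/-- The elements realising the unit. -/
theorem exists_sum_mul (hΘ : Function.Bijective (shear σ)) (g₀ : G) :
    ∃ (n : ℕ) (x y : Fin n → B), ∀ g : G, (g = g₀ → ∑ i, x i * σ g (y i) = 1) ∧
      (g ≠ g₀ → ∑ i, x i * σ g (y i) = 0) := by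
  classical
  obtain ⟨z, hz⟩ := hΘ.2 (Pi.single g₀ 1)
  obtain ⟨S, rfl⟩ := TensorProduct.exists_finset z
  refine ⟨S.card, fun i => (S.equivFin.symm i).1.1, fun i => (S.equivFin.symm i).1.2, fun g => ?_⟩
  have e : ∑ i, (S.equivFin.symm i).1.1 * σ g (S.equivFin.symm i).1.2 = Pi.single (M := fun _ : G => B) g₀ 1 g := by
    rw [← hz, map_sum, Finset.sum_apply, ← Finset.sum_coe_sort S]
    exact Fintype.sum_equiv S.equivFin.symm _ _ fun i => rfl
  exact ⟨fun h => by rw [e, h, Pi.single_eq_same], fun h => by rw [e, Pi.single_eq_of_ne h]⟩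

/-- An algebra spanned by the powers of an element maps isomorphically onto a principal cover when the
conjugates of its image have unit differences. -/
theorem bijective_of_conjugates [Module.FaithfullyFlat A B] (hΘ : Function.Bijective (shear σ))
    {E : Type*} [CommRing E] [Algebra A E] (T : E) (N : ℕ) (e : Fin N ≃ G)
    (hspan : Submodule.span A (Set.range fun k : Fin N => T ^ (k : ℕ)) = ⊤)
    (ψ : E →ₐ[A] B) (hdiff : ∀ g h, g ≠ h → IsUnit (σ g (ψ T) - σ h (ψ T))) : Function.Bijective ψ := by
  classical
  let L : (Fin N → A) →ₗ[A] E := Fintype.linearCombination A fun k : Fin N => T ^ (k : ℕ)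
  have hL : Function.Surjective L := by
    rw [← LinearMap.range_eq_top, Fintype.range_linearCombination, hspan]
  let M : Matrix (Fin N) (Fin N) B := Matrix.vandermonde fun i => σ (e i) (ψ T)
  have hM : IsUnit M.det := by
    rw [Matrix.det_vandermonde]
    refine IsUnit.prod_iff.2 fun i _ => IsUnit.prod_iff.2 fun j hj => ?_
    exact hdiff _ _ fun h => (Finset.mem_Ioi.1 hj).ne' (e.injective h)
  have hMb : Function.Bijective M.mulVec := by
    rw [← Matrix.coe_mulVecLin]
    exact ⟨Matrix.mulVec_injective_of_isUnit ((Matrix.isUnit_iff_isUnit_det M).2 hM),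
      Matrix.mulVec_surjective_iff_isUnit.2 ((Matrix.isUnit_iff_isUnit_det M).2 hM)⟩
  let f : (Fin N → A) →ₗ[A] B := ψ.toLinearMap ∘ₗ L
  let sh : B ⊗[A] (Fin N → A) ≃ₗ[A] (Fin N → B) := (TensorProduct.piScalarRight A B B (Fin N)).restrictScalars A
  have key : ∀ z, ∀ i, shear σ (f.lTensor B z) (e i) = M.mulVec (sh z) i := by
    intro z i
    induction z using TensorProduct.induction_on with
    | zero => simp
    | tmul b c =>
      rw [LinearMap.lTensor_tmul, shear_tmul]
      simp only [sh, LinearEquiv.restrictScalars_apply, TensorProduct.piScalarRight_apply,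
        TensorProduct.piScalarRightHom_tmul, Matrix.mulVec, dotProduct, M, Matrix.vandermonde_apply]
      simp only [f, L, LinearMap.comp_apply, AlgHom.toLinearMap_apply, Fintype.linearCombination_apply,
        map_sum, map_smul, map_pow, Finset.mul_sum]
      refine Finset.sum_congr rfl fun k _ => ?_
      rw [Algebra.smul_def, Algebra.smul_def]
      ring
    | add x y hx hy => simp only [map_add, Pi.add_apply, hx, hy, Matrix.mulVec_add]
  have hf : Function.Bijective (f.lTensor B) := by
    have e1 : (fun h => h ∘ e) ∘ shear σ ∘ f.lTensor B = M.mulVec ∘ sh := funext fun z => funext fun i => key z i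
    have e2 : Function.Bijective ((fun h : G → B => h ∘ e) ∘ shear σ) :=
      ((e.arrowCongr (Equiv.refl B)).symm.bijective).comp hΘ
    exact (Function.Bijective.of_comp_iff' e2 _).1 (by
      rw [Function.comp_assoc, e1]; exact hMb.comp sh.bijective)
  have hfb : Function.Bijective f :=
    ⟨(Module.FaithfullyFlat.lTensor_injective_iff_injective A B f).1 hf.1,
      (Module.FaithfullyFlat.lTensor_surjective_iff_surjective A B f).1 hf.2⟩
  refine ⟨fun x y h => ?_, Function.Surjective.of_comp (g := L) hfb.2⟩
  obtain ⟨a, rfl⟩ := hL x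
  obtain ⟨b, rfl⟩ := hL y
  rw [hfb.1 h]

/-- Spanning by powers. -/
theorem span_pow_eq_top {E : Type*} [CommRing E] [Algebra A E] (T : E) (N : ℕ) (hT : Algebra.adjoin A {T} = ⊤)
    (hN : T ^ N ∈ Submodule.span A (Set.range fun k : Fin N => T ^ (k : ℕ))) :
    Submodule.span A (Set.range fun k : Fin N => T ^ (k : ℕ)) = ⊤ := by
  set M := Submodule.span A (Set.range fun k : Fin N => T ^ (k : ℕ))
  have hmul : ∀ x ∈ M, T * x ∈ M := by
    intro x hx
    induction hx using Submodule.span_induction with
    | mem x hx =>
      obtain ⟨k, rfl⟩ := hx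
      show T * T ^ (k : ℕ) ∈ M
      rw [← pow_succ']
      rcases Nat.lt_or_ge (k + 1) N with h | h
      · exact Submodule.subset_span ⟨⟨k + 1, h⟩, rfl⟩
      · rwa [show (k : ℕ) + 1 = N by omega]
    | zero => simp
    | add x y _ _ hx hy => rw [mul_add]; exact add_mem hx hy
    | smul a x _ hx => rw [mul_smul_comm]; exact M.smul_mem a hx
  have hpow : ∀ k, T ^ k ∈ M := by
    intro k
    induction k with
    | zero =>
      rcases Nat.eq_zero_or_pos N with h | h
      · rw [h] at hN; exact hN
      · exact Submodule.subset_span ⟨⟨0, h⟩, rfl⟩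
    | succ k ih => rw [pow_succ']; exact hmul _ ih
  refine eq_top_iff.2 fun x _ => ?_
  have hx : x ∈ Algebra.adjoin A {T} := hT ▸ trivial
  rw [Algebra.adjoin_singleton_eq_range_aeval] at hx
  obtain ⟨p, rfl⟩ := hx
  show Polynomial.aeval T p ∈ M
  rw [Polynomial.aeval_eq_sum_range]
  exact sum_mem fun i _ => M.smul_mem _ (hpow i)

end

end Groth.Agent.Pi1Ext.Principal
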