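import Groth.Agent.Pi1Ext.Principal.Affine
import Mathlib.RingTheory.RootsOfUnity.PrimitiveRoots
import Mathlib.RingTheory.LocalRing.ResidueField.Basic

/-!
# Principal `μ_n`-covers of local rings are Kummer covers
-/

set_option autoImplicit false
set_option backward.isDefEq.respectTransparency false
set_option backward.isDefEq.respectTransparency.types false
set_option linter.style.haveILetI false

universe u

open CategoryTheory CategoryTheory.Limits AlgebraicGeometry TensorProduct

namespace Groth.Agent.Pi1Ext.Principal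

noncomputable section

variable {A : Type u} [CommRing A] [IsLocalRing A] {n : ℕ}

theorem eq_one_or_isUnit_sub (hn : IsUnit ((n : ℕ) : A)) {z : A} (hz : z ^ n = 1) : z = 1 ∨ IsUnit (z - 1) := by
  refine or_iff_not_imp_right.2 fun h => ?_
  have hm : IsLocalRing.residue A (z - 1) = 0 :=
    Ideal.Quotient.eq_zero_iff_mem.2 ((IsLocalRing.mem_maximalIdeal _).2 h)
  have hz1 : IsLocalRing.residue A z = 1 := by rwa [map_sub, map_one, sub_eq_zero] at hm
  have hu : IsUnit (∑ i ∈ Finset.range n, z ^ i) := by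
    rw [← IsLocalRing.notMem_maximalIdeal, ← IsLocalRing.residue_eq_zero_iff]
    simp only [map_sum, map_pow, hz1, one_pow, Finset.sum_const, Finset.card_range, nsmul_eq_mul, mul_one]
    rw [← map_natCast (IsLocalRing.residue A)]
    exact (hn.map (IsLocalRing.residue A)).ne_zero
  have := geom_sum_mul z n
  rw [hz, sub_self, hu.mul_right_eq_zero, sub_eq_zero] at this
  exact this

theorem residue_injective (hn : IsUnit ((n : ℕ) : A)) :
    Function.Injective fun ζ : rootsOfUnity n A => IsLocalRing.residue A ((ζ : Aˣ) : A) := by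
  intro ζ ξ h
  rcases eq_one_or_isUnit_sub hn (z := ((ζ * ξ⁻¹ : rootsOfUnity n A) : Aˣ)) (by
      rw [← Units.val_pow_eq_pow_val, (mem_rootsOfUnity _ _).1 (ζ * ξ⁻¹).2, Units.val_one]) with h1 | h1
  · refine mul_inv_eq_one.1 (Subtype.ext (Units.ext ?_))
    simpa using h1
  · exfalso
    have e : IsLocalRing.residue A ((((ζ * ξ⁻¹ : rootsOfUnity n A) : Aˣ) : A) - 1) = 0 := by
      have h2 : IsLocalRing.residue A (((ξ : Aˣ) : A) * (((ξ⁻¹ : rootsOfUnity n A) : Aˣ) : A)) = 1 := by simp
      simp only [Subgroup.coe_mul, Units.val_mul, map_sub, map_mul, map_one] at h2 ⊢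
      dsimp only at h
      rw [h, h2, sub_self]
    exact (IsLocalRing.residue_eq_zero_iff _).1 e h1

theorem exists_equiv (hn1 : 1 ≤ n) (hn : IsUnit ((n : ℕ) : A)) {ζ₀ : A} (hζ₀ : IsPrimitiveRoot ζ₀ n) :
    Nonempty (Fin n ≃ rootsOfUnity n A) := by
  classical
  haveI : NeZero n := ⟨by omega⟩
  let f : rootsOfUnity n A → {x // x ∈ Polynomial.nthRoots n (1 : IsLocalRing.ResidueField A)} := fun ζ =>
    ⟨IsLocalRing.residue A ((ζ : Aˣ) : A), (Polynomial.mem_nthRoots (by omega)).2 (by
      rw [← map_pow, ← Units.val_pow_eq_pow_val, (mem_rootsOfUnity _ _).1 ζ.2, Units.val_one, map_one])⟩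
  have hf : Function.Injective f := fun a b h => residue_injective hn (congrArg Subtype.val h)
  haveI : Finite (rootsOfUnity n A) := Finite.of_injective f hf
  have hle : Nat.card (rootsOfUnity n A) ≤ n := by
    refine (Nat.card_le_card_of_injective f hf).trans ?_
    rw [Nat.card_congr (Equiv.subtypeEquivRight fun x => Multiset.mem_toFinset.symm), Nat.card_eq_finsetCard]
    exact (Multiset.toFinset_card_le _).trans (Polynomial.card_nthRoots n 1)
  have hge : n ≤ Nat.card (rootsOfUnity n A) := by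
    let u : Aˣ := (IsUnit.of_pow_eq_one hζ₀.pow_eq_one (by omega)).unit
    let g : Fin n → rootsOfUnity n A := fun k => ⟨u ^ (k : ℕ), by
      rw [mem_rootsOfUnity, ← pow_mul, mul_comm, pow_mul]
      have : u ^ n = 1 := Units.ext (by simp [u, hζ₀.pow_eq_one])
      rw [this, one_pow]⟩
    have hg : Function.Injective g := fun i j h => Fin.ext (hζ₀.pow_inj i.2 j.2 (by
      have := congrArg (fun z : rootsOfUnity n A => ((z : Aˣ) : A)) h
      simpa [g, u] using this))
    simpa using Nat.card_le_card_of_injective g hg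
  exact ⟨(Finite.equivFinOfCardEq (le_antisymm hle hge)).symm⟩

theorem exists_kummer {B : Type u} [CommRing B] [Algebra A B] [Module.FaithfullyFlat A B] [Module.Finite A B]
    (hn1 : 1 ≤ n) (hn : IsUnit ((n : ℕ) : A)) (eG : Fin n ≃ rootsOfUnity n A)
    (σ : rootsOfUnity n A →* (B ≃ₐ[A] B)) (hΘ : Function.Bijective (shear σ)) :
    ∃ (a : Aˣ) (ψ : SGA1t.kummer A (fun _ : Unit => (a : A)) (fun _ => n) →ₐ[A] B), Function.Bijective ψ ∧
      ∀ (ζ : rootsOfUnity n A) z,
        σ ζ (ψ z) = ψ (SGA1t.kummerTwist A (fun _ : Unit => (a : A)) (fun _ => n) (fun _ => ζ) z) := by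
  classical
  haveI : Finite (rootsOfUnity n A) := Finite.of_equiv _ eG
  cases nonempty_fintype (rootsOfUnity n A)
  let ι : rootsOfUnity n A →* B := (algebraMap A B : A →* B).comp ((Units.coeHom A).comp (rootsOfUnity n A).subtype)
  have hιn : ∀ ζ, ι ζ ^ n = 1 := fun ζ => by
    show algebraMap A B ((ζ : Aˣ) : A) ^ n = 1
    rw [← map_pow, ← Units.val_pow_eq_pow_val, (mem_rootsOfUnity _ _).1 ζ.2, Units.val_one, map_one]
  let L : B → B := fun b => ∑ ζ, ι ζ⁻¹ * σ ζ b
  have hL : ∀ b ξ, σ ξ (L b) = ι ξ * L b := fun b ξ => by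
    simp only [L, map_sum, Finset.mul_sum, map_mul]
    refine Fintype.sum_equiv (Equiv.mulLeft ξ) _ _ fun ζ => ?_
    rw [show σ ξ (ι ζ⁻¹) = ι ζ⁻¹ from AlgEquiv.commutes _ _, ← AlgEquiv.mul_apply, ← map_mul, ← mul_assoc,
      ← map_mul, Equiv.coe_mulLeft, mul_inv_rev, mul_comm ζ⁻¹ ξ⁻¹, mul_inv_cancel_left]
  obtain ⟨m, x, y, hxy⟩ := exists_sum_mul σ hΘ 1
  have hsum : ∑ i, x i * L (y i) = 1 := by
    simp only [L, Finset.mul_sum]
    rw [Finset.sum_comm, Finset.sum_eq_single (1 : rootsOfUnity n A)]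
    · simp only [inv_one, map_one, one_mul]
      have := (hxy 1).1 rfl
      rwa [map_one] at this
    · intro j _ hj
      simp only [mul_left_comm (x _) (ι j⁻¹)]
      rw [← Finset.mul_sum, (hxy j).2 hj, mul_zero]
    · simp
  have hc : ∃ c, IsUnit (L c) := by
    haveI : Nontrivial B := by
      by_contra h
      rw [not_nontrivial_iff_subsingleton] at h
      exact not_subsingleton A (Function.Injective.subsingleton (f := algebraMap A B)
        (FaithfulSMul.algebraMap_injective A B))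
    obtain ⟨m₀, hm₀⟩ := Ideal.exists_maximal B
    obtain ⟨i, hi⟩ : ∃ i, L (y i) ∉ m₀ := by
      by_contra h
      push Not at h
      exact hm₀.ne_top ((Ideal.eq_top_iff_one _).2 (hsum ▸ sum_mem fun i _ => Ideal.mul_mem_left _ _ (h i)))
    obtain ⟨a, ha⟩ := mem_range_of_invariant σ hΘ (L (y i) ^ n) fun ξ => by
      rw [map_pow, hL, mul_pow, hιn, one_mul]
    refine ⟨y i, (isUnit_pow_iff (n := n) (by omega)).1 ?_⟩
    rw [← ha]
    refine (IsLocalRing.notMem_maximalIdeal.1 fun h => hi (hm₀.isPrime.mem_of_pow_mem n ?_)).map _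
    rw [← ha]
    have hcomap : m₀.comap (algebraMap A B) = IsLocalRing.maximalIdeal A :=
      IsLocalRing.eq_maximalIdeal (Ideal.isMaximal_comap_of_isIntegral_of_isMaximal m₀)
    rw [← hcomap] at h
    exact h
  obtain ⟨c, hc⟩ := hc
  obtain ⟨a, ha⟩ := mem_range_of_invariant σ hΘ (L c ^ n) fun ξ => by
    rw [map_pow, hL, mul_pow, hιn, one_mul]
  have hau : IsUnit a := by
    refine IsLocalRing.notMem_maximalIdeal.1 fun h => ?_
    have h1 : algebraMap A B a ∈ (IsLocalRing.maximalIdeal A).map (algebraMap A B) := Ideal.mem_map_of_mem _ h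
    rw [ha] at h1
    have h2 := Ideal.eq_top_of_isUnit_mem _ h1 (hc.pow n)
    have := congrArg (Ideal.comap (algebraMap A B)) h2
    rw [Ideal.comap_map_eq_self_of_faithfullyFlat, Ideal.comap_top] at this
    exact (IsLocalRing.maximalIdeal.isMaximal A).ne_top this
  let I : Ideal (MvPolynomial Unit A) := Ideal.span (Set.range fun i : Unit =>
    (MvPolynomial.X i : MvPolynomial Unit A) ^ ((fun _ : Unit => n) i) - MvPolynomial.C ((fun _ : Unit => ((hau.unit : Aˣ) : A)) i))
  let ψ : SGA1t.kummer A (fun _ : Unit => ((hau.unit : Aˣ) : A)) (fun _ => n) →ₐ[A] B :=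
    Ideal.Quotient.liftₐ I (MvPolynomial.aeval fun _ => L c) (fun f hf => by
      have hle : I ≤ RingHom.ker (MvPolynomial.aeval (R := A) fun _ : Unit => L c) := by
        rw [Ideal.span_le]
        rintro _ ⟨i, rfl⟩
        simp [ha]
      exact hle hf)
  let root : SGA1t.kummer A (fun _ : Unit => ((hau.unit : Aˣ) : A)) (fun _ => n) := Ideal.Quotient.mk I (MvPolynomial.X ())
  have hψ : ψ root = L c := by
    show MvPolynomial.aeval (fun _ => L c) (MvPolynomial.X ()) = L c
    simp
  have hadj : Algebra.adjoin A {root} = ⊤ := by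
    have e : (Ideal.Quotient.mkₐ A I) '' Set.range MvPolynomial.X = {root} := by
      rw [← Set.range_comp]
      ext z
      simp [root, eq_comm]
      exact ⟨fun ⟨_, h⟩ => h, fun h => ⟨(), h⟩⟩
    rw [← e, ← AlgHom.map_adjoin, MvPolynomial.adjoin_range_X, Algebra.map_top, AlgHom.range_eq_top]
    exact Ideal.Quotient.mkₐ_surjective A I
  have hpow : root ^ n ∈ Submodule.span A (Set.range fun k : Fin n => root ^ (k : ℕ)) := by
    have e : root ^ n = a • root ^ (0 : ℕ) := by
      rw [pow_zero, ← Algebra.algebraMap_eq_smul_one]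
      show Ideal.Quotient.mk I (MvPolynomial.X ()) ^ n = Ideal.Quotient.mk I (MvPolynomial.C a)
      rw [← map_pow, Ideal.Quotient.eq]
      exact Ideal.subset_span ⟨(), by simp⟩
    rw [e]
    exact Submodule.smul_mem _ _ (Submodule.subset_span ⟨⟨0, by omega⟩, rfl⟩)
  refine ⟨hau.unit, ψ, bijective_of_conjugates σ hΘ root n eG (span_pow_eq_top root n hadj hpow) ψ ?_, ?_⟩
  · intro g h hgh
    rw [hψ, hL, hL, ← sub_mul]
    refine IsUnit.mul ?_ hc
    have hu : IsUnit (((g : Aˣ) : A) - ((h : Aˣ) : A)) := by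
      refine IsLocalRing.notMem_maximalIdeal.1 fun hm => hgh (residue_injective hn ?_)
      dsimp only
      rwa [← sub_eq_zero, ← map_sub, IsLocalRing.residue_eq_zero_iff]
    show IsUnit (algebraMap A B _ - algebraMap A B _)
    rw [← map_sub]
    exact hu.map _
  · intro ζ z
    obtain ⟨f, rfl⟩ := Ideal.Quotient.mk_surjective z
    show σ ζ (MvPolynomial.aeval (fun _ => L c) f) = MvPolynomial.aeval (fun _ => L c)
      (MvPolynomial.aeval (fun i : Unit => MvPolynomial.C ((ζ : Aˣ) : A) * MvPolynomial.X i) f)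
    show ((σ ζ : B →ₐ[A] B).comp (MvPolynomial.aeval fun _ => L c)) f =
      ((MvPolynomial.aeval fun _ : Unit => L c).comp
        (MvPolynomial.aeval fun i : Unit => MvPolynomial.C ((ζ : Aˣ) : A) * MvPolynomial.X i)) f
    congr 1
    refine MvPolynomial.algHom_ext fun i => ?_
    simp [hL, ι]

theorem scheme_kummer (hn1 : 1 ≤ n) (hn : IsUnit ((n : ℕ) : A)) (ζ₀ : A) (hζ₀ : IsPrimitiveRoot ζ₀ n)
    (P : FEt.Cat (Spec (CommRingCat.of A))) (ρ : ↥(rootsOfUnity n A) →* Aut P)
    (hP : SGA1t.IsPrincipal ↥(rootsOfUnity n A) P ρ) :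
    ∃ (a : Aˣ) (e : P.left ≅ Spec (CommRingCat.of (SGA1t.kummer A (fun _ : Unit => (a : A)) (fun _ => n)))),
      e.hom ≫ Spec.map (CommRingCat.ofHom (algebraMap A (SGA1t.kummer A (fun _ : Unit => (a : A)) (fun _ => n)))) = P.hom ∧
      ∀ ζ : ↥(rootsOfUnity n A), (ρ ζ).hom.left ≫ e.hom =
        e.hom ≫ Spec.map (CommRingCat.ofHom (SGA1t.kummerTwist A (fun _ : Unit => (a : A)) (fun _ => n) (fun _ => ζ))) := by
  obtain ⟨eG⟩ := exists_equiv hn1 hn hζ₀
  haveI : Finite (rootsOfUnity n A) := Finite.of_equiv _ eG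
  obtain ⟨M⟩ := exists_model P ρ hP
  obtain ⟨a, ψ, hψ, heq⟩ := exists_kummer hn1 hn eG M.σ (shear_bijective M.σ M.simply)
  haveI : IsIso (CommRingCat.ofHom ψ.toRingHom) := (ConcreteCategory.isIso_iff_bijective _).2 hψ
  let e : P.left ≅ Spec (CommRingCat.of (SGA1t.kummer A (fun _ : Unit => (a : A)) (fun _ => n))) :=
    M.e ≪≫ asIso (Spec.map (CommRingCat.ofHom ψ.toRingHom))
  refine ⟨a, e, ?_, fun ζ => ?_⟩
  · simp only [e, Iso.trans_hom, asIso_hom, Category.assoc, ← Spec.map_comp]
    refine Eq.trans ?_ M.he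
    congr 2
    exact CommRingCat.hom_ext (RingHom.ext fun r => ψ.commutes r)
  · simp only [e, Iso.trans_hom, asIso_hom, Category.assoc]
    rw [← Category.assoc, show (ρ ζ).hom.left ≫ M.e.hom = M.e.hom ≫ _ from M.hσ ζ,
      Category.assoc, ← Spec.map_comp, ← Spec.map_comp]
    congr 2
    exact CommRingCat.hom_ext (RingHom.ext fun z => heq ζ z)

end

end Groth.Agent.Pi1Ext.Principal
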